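import Groth.Agent.S0271
import Groth.Agent.InertiaEtaleLib.Lift
import Groth.Prelude

/-! Points fixed by the inertia group are defined over an étale algebra inside the valuation ring. -/

set_option autoImplicit false
set_option backward.isDefEq.respectTransparency false
set_option linter.style.haveILetI false
set_option maxHeartbeats 1000000
set_option synthInstance.maxHeartbeats 200000
universe u

open Polynomial
open scoped Pointwise nonZeroDivisors

noncomputable section

namespace InertiaPtsLib

variable {R K Ω : Type u} [CommRing R] [Field K] [Algebra R K] [Field Ω] [Algebra K Ω] [Algebra R Ω]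
  [IsScalarTower R K Ω] (W : ValuationSubring Ω)

/-- Integral elements lie in the valuation ring. -/
theorem mem_of_isIntegral (hR : ∀ r : R, algebraMap R Ω r ∈ W) {x : Ω} (hx : IsIntegral R x) : x ∈ W := by
  letI : Algebra R W := ((algebraMap R Ω).codRestrict W.toSubring hR).toAlgebra
  haveI : IsScalarTower R W Ω := IsScalarTower.of_algebraMap_eq fun _ => rfl
  obtain ⟨y, hy⟩ := IsIntegrallyClosed.isIntegral_iff.1 (hx.tower_top (A := W))
  exact hy ▸ y.2

/-- A root of a polynomial with a coefficient of valuation one is a fraction of integral elements. -/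
theorem exists_frac_of_root (hR : ∀ r : R, algebraMap R Ω r ∈ W) {x : Ω} (hx : x ∈ W) :
    ∀ (n : ℕ) (p : (integralClosure R Ω)[X]), p.natDegree ≤ n → aeval x p = 0 →
      (∃ b : integralClosure R Ω, W.valuation (b : Ω) = 1 ∧ IsIntegral R ((b : Ω) * x)) ∨
        ∀ i, W.valuation ((p.coeff i : integralClosure R Ω) : Ω) < 1 := by
  intro n
  induction n with
  | zero =>
    intro p hp h
    refine Or.inr fun i => ?_
    rw [eq_C_of_natDegree_le_zero hp, aeval_C] at h
    rw [eq_C_of_natDegree_le_zero hp]
    have h0 : p.coeff 0 = 0 := Subtype.ext h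
    simp [h0]
  | succ n ih =>
    intro p hp h
    by_cases hlt : p.natDegree ≤ n
    · exact ih p hlt h
    have hd : p.natDegree = n + 1 := by omega
    let a := p.leadingCoeff
    have hax : IsIntegral R ((a : Ω) * x) := by
      have h1 : IsIntegral (integralClosure R Ω) ((a : Ω) * x) := isIntegral_leadingCoeff_smul p x h
      exact isIntegral_trans (R := R) (A := integralClosure R Ω) _ h1
    by_cases hva : W.valuation (a : Ω) = 1
    · exact Or.inl ⟨a, hva, hax⟩
    have hva' : W.valuation (a : Ω) < 1 :=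
      lt_of_le_of_ne ((W.valuation_le_one_iff _).2 (mem_of_isIntegral W hR a.2)) hva
    let c : integralClosure R Ω := ⟨(a : Ω) * x, hax⟩
    let p' := p.eraseLead + C c * X ^ n
    have hp' : p'.natDegree ≤ n := by
      refine (natDegree_add_le _ _).trans (max_le ((eraseLead_natDegree_le p).trans (by omega)) ?_)
      exact natDegree_C_mul_X_pow_le c n
    have hx' : aeval x p' = 0 := by
      rw [← h]
      conv_rhs => rw [← eraseLead_add_C_mul_X_pow p, hd]
      simp only [p', map_add, map_mul, map_pow, aeval_C, aeval_X]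
      congr 1
      show ((a : Ω) * x) * x ^ n = (a : Ω) * x ^ (n + 1)
      ring
    rcases ih p' hp' hx' with h1 | h1
    · exact Or.inl h1
    refine Or.inr fun i => ?_
    by_cases hi : i = n + 1
    · subst hi; rw [← hd]; exact hva'
    have hc : W.valuation (c : Ω) < 1 := by
      show W.valuation ((a : Ω) * x) < 1
      rw [map_mul]
      calc W.valuation (a : Ω) * W.valuation x ≤ W.valuation (a : Ω) * 1 :=
            mul_le_mul_right ((W.valuation_le_one_iff x).2 hx) _
        _ < 1 := by rwa [mul_one]
    have h2 := h1 i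
    have he : p.eraseLead.coeff i = p.coeff i := eraseLead_coeff_of_ne i (by omega)
    simp only [p', coeff_add, coeff_C_mul_X_pow, he] at h2
    split_ifs at h2
    · rw [show ((p.coeff i : integralClosure R Ω) : Ω) =
        ((p.coeff i + c : integralClosure R Ω) : Ω) - (c : Ω) by push_cast; ring]
      exact lt_of_le_of_lt (Valuation.map_sub _ _ _) (max_lt h2 hc)
    · simpa using h2

variable [IsDomain R] [IsDiscreteValuationRing R] [IsFractionRing R K] [Algebra.IsAlgebraic K Ω]

/-- The valuation ring consists of fractions of integral elements. -/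
theorem exists_frac (hW : SGA7.LiesOver K R W) {x : Ω} (hx : x ∈ W) :
    ∃ b : Ω, IsIntegral R b ∧ W.valuation b = 1 ∧ IsIntegral R (b * x) := by
  classical
  have hR : ∀ r : R, algebraMap R Ω r ∈ W := fun r => by
    rw [IsScalarTower.algebraMap_apply R K Ω]; exact hW.1 r
  obtain ⟨p, hp0, hp⟩ := (IsFractionRing.isAlgebraic_iff R K Ω).2 (Algebra.IsAlgebraic.isAlgebraic (R := K) x)
  letI : StrongNormalizationMonoid R := UniqueFactorizationMonoid.normalizationMonoid
  haveI : FaithfulSMul R Ω := (faithfulSMul_iff_algebraMap_injective R Ω).2 (by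
    rw [IsScalarTower.algebraMap_eq R K Ω]; exact (algebraMap K Ω).injective.comp (IsFractionRing.injective R K))
  letI : NormalizedGCDMonoid R := UniqueFactorizationMonoid.toNormalizedGCDMonoid R
  have hq : aeval x p.primPart = 0 := aeval_primPart_eq_zero hp0 hp
  rcases exists_frac_of_root W hR hx _ (p.primPart.map (algebraMap R (integralClosure R Ω))) le_rfl
      (by rw [aeval_map_algebraMap]; exact hq) with ⟨b, hb1, hb2⟩ | h
  · exact ⟨b, b.2, hb1, hb2⟩
  exfalso
  obtain ⟨ϖ, hϖ⟩ := IsDiscreteValuationRing.exists_irreducible R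
  refine hϖ.not_isUnit (p.isPrimitive_primPart ϖ (C_dvd_iff_dvd_coeff _ _ |>.2 fun i => ?_))
  rw [← Ideal.mem_span_singleton, ← hϖ.maximalIdeal_eq, IsLocalRing.mem_maximalIdeal, mem_nonunits_iff]
  intro hu
  have h2 := h i
  rw [coeff_map] at h2
  obtain ⟨u, hu'⟩ := hu
  have h3 : W.valuation (algebraMap R Ω (u : R)) * W.valuation (algebraMap R Ω ((u⁻¹ : Rˣ) : R)) = 1 := by
    rw [← map_mul, ← map_mul, Units.mul_inv, map_one, map_one]
  have h4 : W.valuation (algebraMap R Ω (u : R)) < 1 := by rw [hu']; exact h2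
  refine absurd h3 (ne_of_lt ?_)
  calc W.valuation (algebraMap R Ω (u : R)) * W.valuation (algebraMap R Ω ((u⁻¹ : Rˣ) : R))
      ≤ W.valuation (algebraMap R Ω (u : R)) * 1 :=
        mul_le_mul_right ((W.valuation_le_one_iff _).2 (hR _)) _
    _ < 1 := by rwa [mul_one]

/-- An automorphism trivial modulo the prime on integral elements is in the inertia group. -/
theorem isInertia_of_forall (hW : SGA7.LiesOver K R W) (τ : Ω ≃ₐ[K] Ω)
    (h : ∀ c : Ω, IsIntegral R c → W.valuation (τ c - c) < 1) : SGA7.IsInertia W τ := by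
  intro x hx
  have hR : ∀ r : R, algebraMap R Ω r ∈ W := fun r => by
    rw [IsScalarTower.algebraMap_apply R K Ω]; exact hW.1 r
  obtain ⟨b, hb, hvb, hbx⟩ := exists_frac W hW hx
  have hvb' : W.valuation (τ b) = 1 := by
    rw [← sub_add_cancel (τ b) b, Valuation.map_add_eq_of_lt_right _ (by rw [hvb]; exact h b hb), hvb]
  have hτa : IsIntegral R (τ (b * x)) := hbx.map ((τ : Ω →ₐ[K] Ω).restrictScalars R)
  have hvx : W.valuation (τ x) ≤ 1 := by
    have := (W.valuation_le_one_iff _).2 (mem_of_isIntegral W hR hτa)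
    rwa [map_mul, map_mul, hvb', one_mul] at this
  refine ⟨(W.valuation_le_one_iff _).1 hvx, ?_⟩
  have hx1 : W.valuation (x * (τ b - b)) < 1 := by
    rw [map_mul]
    calc W.valuation x * W.valuation (τ b - b) ≤ 1 * W.valuation (τ b - b) :=
          mul_le_mul_left ((W.valuation_le_one_iff x).2 hx) _
      _ < 1 := by rw [one_mul]; exact h b hb
  have h2 : W.valuation ((τ x - x) * τ b) < 1 := by
    rw [show (τ x - x) * τ b = (τ (b * x) - b * x) - x * (τ b - b) by rw [map_mul]; ring]
    exact lt_of_le_of_lt (Valuation.map_sub _ _ _) (max_lt (h _ hbx) hx1)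
  rwa [map_mul, hvb', mul_one] at h2

variable [IsGalois K Ω]

/-- A finite extension fixed by inertia sits in the fraction field of an étale algebra inside `W`. -/
theorem exists_etale (hW : SGA7.LiesOver K R W) (F : IntermediateField K Ω) [FiniteDimensional K F]
    (hF : ∀ σ : Ω ≃ₐ[K] Ω, SGA7.IsInertia W σ → ∀ f ∈ F, σ f = f) :
    ∃ (L : Type u) (_ : Field L) (_ : Algebra K L) (_ : Algebra R L) (_ : IsScalarTower R K L) (χ : L →ₐ[K] Ω)
      (S : Type u) (_ : CommRing S) (_ : Algebra R S) (_ : Algebra S L) (_ : IsScalarTower R S L),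
      F ≤ χ.fieldRange ∧ Algebra.Etale R S ∧ IsLocalization (Algebra.algebraMapSubmonoid S R⁰) L ∧
      ∀ s : S, χ (algebraMap S L s) ∈ W := by
  classical
  have hR : ∀ r : R, algebraMap R Ω r ∈ W := fun r => by
    rw [IsScalarTower.algebraMap_apply R K Ω]; exact hW.1 r
  let E : FiniteGaloisIntermediateField K Ω :=
    ⟨IntermediateField.normalClosure K F Ω⟩
  let E₀ := E.toIntermediateField
  have hFE : F ≤ E₀ := IntermediateField.le_normalClosure F
  let G := E₀ ≃ₐ[K] E₀
  let B := integralClosure R E₀
  letI : MulSemiringAction G B :=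
    MulSemiringAction.compHom B (
      { toFun := fun γ => (γ.restrictScalars R).mapIntegralClosure.toRingEquiv
        map_one' := RingEquiv.ext fun x => Subtype.ext rfl
        map_mul' := fun _ _ => RingEquiv.ext fun x => Subtype.ext rfl } : G →* (B ≃+* B))
  have hsmul : ∀ (γ : G) (x : B), ((γ • x : B) : E₀) = γ x := fun _ _ => rfl
  let jB : B →ₐ[R] integralClosure R Ω :=
    AlgHom.mapIntegralClosure ((IntermediateField.val E₀).restrictScalars R)
  let ψ : integralClosure R Ω →+* W := (integralClosure R Ω).val.toRingHom.codRestrict W.toSubring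
    fun c => mem_of_isIntegral W hR c.2
  let q' : Ideal (integralClosure R Ω) := (IsLocalRing.maximalIdeal W).comap ψ
  let q : Ideal B := q'.comap jB
  haveI : q'.IsPrime := Ideal.comap_isPrime _ _
  haveI : q.IsPrime := Ideal.comap_isPrime _ _
  have hq' : ∀ c : integralClosure R Ω, c ∈ q' ↔ W.valuation (c : Ω) < 1 := fun c =>
    W.valuation_lt_one_iff (ψ c)
  obtain ⟨g, hg, het⟩ := Groth.Agent.S0271.result G B q
  let I := q.inertia G
  let A := FixedPoints.subring B G
  let BI := FixedPoints.subring B I
  letI : Algebra R A := ((algebraMap R B).codRestrict A fun r γ => Subtype.ext (by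
    rw [hsmul]
    show γ (algebraMap R E₀ r) = algebraMap R E₀ r
    rw [IsScalarTower.algebraMap_apply R K E₀, AlgEquiv.commutes])).toAlgebra
  letI : Algebra R BI := ((algebraMap A BI).comp (algebraMap R A)).toAlgebra
  haveI : IsScalarTower R A BI := IsScalarTower.of_algebraMap_eq fun _ => rfl
  have hA : Function.Bijective (algebraMap R A) := by
    refine ⟨fun a b h => ?_, fun x => ?_⟩
    · have h' : algebraMap R E₀ a = algebraMap R E₀ b :=
        congrArg (fun t : A => ((t : B) : E₀)) h
      rw [IsScalarTower.algebraMap_apply R K E₀, IsScalarTower.algebraMap_apply R K E₀] at h'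
      exact IsFractionRing.injective R K ((algebraMap K E₀).injective h')
    · obtain ⟨k, hk⟩ := (IsGalois.mem_range_algebraMap_iff_fixed ((x : B) : E₀)).2 fun γ =>
        (hsmul γ x).symm.trans (congrArg Subtype.val (x.2 γ))
      have hint : IsIntegral R k := (isIntegral_algHom_iff
        ((Algebra.ofId K E₀).restrictScalars R) (algebraMap K E₀).injective).1 (by
          show IsIntegral R (algebraMap K E₀ k); rw [hk]; exact (x : B).2)
      obtain ⟨r, rfl⟩ := IsIntegrallyClosed.isIntegral_iff.1 hint
      refine ⟨r, Subtype.ext (Subtype.ext ?_)⟩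
      show algebraMap R E₀ r = _
      rw [IsScalarTower.algebraMap_apply R K E₀]; exact hk
  haveI : Algebra.Etale R A := Algebra.Etale.of_equiv (AlgEquiv.ofBijective (Algebra.ofId R A) hA)
  let S := Localization.Away g
  haveI : Algebra.Etale A S := het
  haveI : IsScalarTower R A S := IsScalarTower.of_algebraMap_eq fun r => by
    rw [IsScalarTower.algebraMap_apply R BI S, IsScalarTower.algebraMap_apply A BI S]; rfl
  haveI : Algebra.Etale R S := Algebra.Etale.comp R A S
  let L := IntermediateField.fixedField I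
  let b₀ : BI →+* L :=
    { toFun := fun b => ⟨((b : B) : E₀), fun γ =>
        (hsmul γ.1 b).symm.trans (congrArg Subtype.val (b.2 γ))⟩
      map_one' := rfl
      map_mul' := fun _ _ => rfl
      map_zero' := rfl
      map_add' := fun _ _ => rfl }
  have hb₀ : Function.Injective b₀ := fun a b h =>
    Subtype.ext (Subtype.ext (congrArg (fun t : L => (t : E₀)) h))
  have hg0 : b₀ g ≠ 0 := fun h => hg (by
    rw [hb₀ (h.trans (map_zero b₀).symm)]
    exact zero_mem _)
  have hlift : ∀ y : Submonoid.powers g, IsUnit (b₀ y) := by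
    rintro ⟨_, n, rfl⟩
    show IsUnit (b₀ (g ^ n))
    rw [map_pow]; exact (isUnit_iff_ne_zero.2 hg0).pow n
  letI : Algebra S L := (IsLocalization.lift (S := S) hlift).toAlgebra
  haveI : IsScalarTower R S L := IsScalarTower.of_algebraMap_eq fun r => by
    rw [IsScalarTower.algebraMap_apply R BI S]
    show _ = IsLocalization.lift hlift _
    rw [IsLocalization.lift_eq]
    rfl
  let χ : L →ₐ[K] Ω := (IntermediateField.val E₀).comp (IntermediateField.val L)
  have hval : ∀ b : BI, W.valuation (χ (b₀ b)) ≤ 1 := fun b =>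
    (W.valuation_le_one_iff _).2 (ψ (jB (b : B))).2
  refine ⟨L, inferInstance, inferInstance, inferInstance, inferInstance, χ, S, inferInstance, inferInstance,
    inferInstance, inferInstance, ?_, inferInstance, ?_, ?_⟩
  · intro f hf
    refine ⟨⟨⟨f, hFE hf⟩, fun γ => ?_⟩, rfl⟩
    obtain ⟨τ, hτE, hτ⟩ := InertiaEtaleLib.exists_lift_inertia (A := R) q' E₀ (γ.1.liftNormal Ω)
      fun c hc => by
        have hint : IsIntegral R (⟨(c : Ω), hc⟩ : E₀) :=
          (isIntegral_algHom_iff ((IntermediateField.val E₀).restrictScalars R) Subtype.val_injective).1 c.2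
        have h1 : jB (γ.1 • (⟨_, hint⟩ : B) - ⟨_, hint⟩) ∈ q' := γ.2 ⟨_, hint⟩
        convert h1 using 1
        rw [map_sub]
        congr 1
        exact Subtype.ext (AlgEquiv.liftNormal_commutes γ.1 Ω ⟨(c : Ω), hc⟩)
    have hI : SGA7.IsInertia W τ := isInertia_of_forall W hW τ fun c hc => (hq' _).1 (hτ ⟨c, hc⟩)
    apply Subtype.ext
    calc ((γ.1 ⟨f, hFE hf⟩ : E₀) : Ω) = γ.1.liftNormal Ω f := (AlgEquiv.liftNormal_commutes γ.1 Ω _).symm
      _ = τ f := (hτE f (hFE hf)).symm
      _ = f := hF τ hI f hf
  · constructor; refine ⟨?_, ?_, ?_⟩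
    · rintro ⟨_, r, hr, rfl⟩
      show IsUnit (algebraMap S L (algebraMap R S r))
      rw [← IsScalarTower.algebraMap_apply, IsScalarTower.algebraMap_apply R K L]
      exact (isUnit_iff_ne_zero.2 fun h => nonZeroDivisors.ne_zero hr
        (IsFractionRing.injective R K (h.trans (map_zero _).symm))).map _
    · intro z
      obtain ⟨⟨r, hr⟩, hrz⟩ := IsIntegral.exists_multiple_integral_of_isLocalization R⁰ (z : E₀)
        (Algebra.IsIntegral.isIntegral (R := K) (z : E₀))
      have hfix : ∀ γ : I, γ • (⟨r • (z : E₀), hrz⟩ : B) = ⟨r • (z : E₀), hrz⟩ := fun γ => Subtype.ext (by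
        show γ.1 (r • (z : E₀)) = r • (z : E₀)
        rw [Algebra.smul_def, map_mul, IsScalarTower.algebraMap_apply R K E₀, AlgEquiv.commutes,
          show γ.1 (z : E₀) = (z : E₀) from z.2 γ])
      refine ⟨(algebraMap BI S ⟨_, hfix⟩, ⟨_, r, hr, rfl⟩), ?_⟩
      show z * algebraMap S L (algebraMap R S r) = IsLocalization.lift hlift (algebraMap BI S ⟨_, hfix⟩)
      rw [IsLocalization.lift_eq, ← IsScalarTower.algebraMap_apply]
      refine Subtype.ext ?_
      show (z : E₀) * algebraMap R E₀ r = r • (z : E₀)
      rw [Algebra.smul_def, mul_comm]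
    · intro a b h
      refine ⟨1, ?_⟩
      rw [(IsLocalization.lift_injective_iff hlift).2 (fun x y => ?_) h]
      exact ⟨fun e => by
        obtain ⟨c, hc⟩ := (IsLocalization.eq_iff_exists (Submonoid.powers g) S).1 e
        exact mul_left_cancel₀ (hlift c).ne_zero (by rw [← map_mul, ← map_mul, hc]),
        fun e => by rw [hb₀ e]⟩
  · intro s
    obtain ⟨⟨b, ⟨_, n, rfl⟩⟩, hs⟩ := IsLocalization.surj (Submonoid.powers g) s
    have hs' := congrArg (fun t => W.valuation (χ (algebraMap S L t))) hs
    dsimp only at hs'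
    have hlf : ∀ x : BI, algebraMap S L (algebraMap BI S x) = b₀ x := fun x => IsLocalization.lift_eq hlift x
    simp only [map_mul, map_pow] at hs'
    erw [hlf, hlf] at hs'
    have hg1 : W.valuation (χ (b₀ g)) = 1 :=
      le_antisymm (hval g) (le_of_not_gt fun hlt => hg ((hq' (jB (g : B))).2 hlt))
    rw [hg1, one_pow, mul_one] at hs'
    exact (W.valuation_le_one_iff _).1 (hs'.le.trans (hval b))

end InertiaPtsLib
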