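import Groth.Agent.InertiaPtsLib.Basic
import Groth.Agent.TorsLiftLib.Basic
import Groth.Agent.TorsExtLib.Neron
import Groth.Agent.AlbLib.AVBasic

/-! Points of Néron models with values in the valuation ring of a separable closure. -/

set_option autoImplicit false
set_option backward.isDefEq.respectTransparency false
set_option linter.style.haveILetI false
universe u

open CategoryTheory CategoryTheory.Limits MonoidalCategory CartesianMonoidalCategory AlgebraicGeometry MonObj

noncomputable section

namespace InertiaPtsLib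

/-- Points with values in a local scheme of an unramified scheme agree when they agree on the closed point. -/
theorem eq_of_unramified_local {Z S : Scheme.{u}} (π : Z ⟶ S) [FormallyUnramified π] [LocallyOfFiniteType π]
    {W : Type u} [CommRing W] [IsLocalRing W] (a b : Spec (CommRingCat.of W) ⟶ Z) (hπ : a ≫ π = b ≫ π)
    (h : Spec.map (CommRingCat.ofHom (IsLocalRing.residue W)) ≫ a =
      Spec.map (CommRingCat.ofHom (IsLocalRing.residue W)) ≫ b) : a = b := by
  let w := pullback.lift a b hπ
  let q := Spec.map (CommRingCat.ofHom (IsLocalRing.residue W))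
  have hw : q ≫ w = (q ≫ a) ≫ pullback.diagonal π := by
    apply pullback.hom_ext
    · simp only [w, Category.assoc, pullback.lift_fst, pullback.diagonal_fst, Category.comp_id]
    · simp only [w, q, Category.assoc, pullback.lift_snd, pullback.diagonal_snd, Category.comp_id]; exact h.symm
  have hr : Set.range w.base ⊆ Set.range (pullback.diagonal π).base := by
    rintro _ ⟨z, rfl⟩
    refine (IsLocalRing.specializes_closedPoint z).map w.base.hom.continuous |>.mem_open
      (pullback.diagonal π).opensRange.2 ?_
    rw [← SubmDescLib.closedPoint_map (IsLocalRing.residue W) IsLocalRing.residue_surjective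
      (IsLocalRing.closedPoint (IsLocalRing.ResidueField W)), ← Scheme.Hom.comp_apply]
    erw [hw, Scheme.Hom.comp_apply]
    exact ⟨_, rfl⟩
  have hl := IsOpenImmersion.lift_fac (pullback.diagonal π) w hr
  have h1 := congrArg (· ≫ pullback.fst π π) hl
  have h2 := congrArg (· ≫ pullback.snd π π) hl
  simp only [Category.assoc, pullback.diagonal_fst, pullback.diagonal_snd, Category.comp_id] at h1 h2
  rw [pullback.lift_fst] at h1
  rw [pullback.lift_snd] at h2
  exact h1.symm.trans h2

/-- A Néron model of an abelian variety is commutative. -/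
theorem isCommMonObj_neron {R K : Type u} [CommRing R] [Field K] [Algebra R K]
    (N : Over (Spec (CommRingCat.of R))) [GrpObj N] (hN : SGA7.IsNeron R K N)
    [IsProper ((SGA7.genFib R K).obj N).hom] [GeometricallyIntegral ((SGA7.genFib R K).obj N).hom] :
    IsCommMonObj N := by
  obtain ⟨hs, -, -, hbij⟩ := hN
  haveI := hs
  letI : GrpObj ((SGA7.genFib R K).obj N) := Functor.grpObjObj
  haveI : IsCommMonObj ((SGA7.genFib R K).obj N) := CubeConsLib.isCommMonObj_field
  have hNN : Smooth (N ⊗ N).hom := by
    show Smooth (pullback.fst N.hom N.hom ≫ N.hom)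
    infer_instance
  have key : (fst N N * snd N N : N ⊗ N ⟶ N) = snd N N * fst N N := by
    refine (hbij _ hNN).1 ?_
    show (SGA7.genFib R K).map (fst N N * snd N N) = (SGA7.genFib R K).map (snd N N * fst N N)
    rw [Functor.map_mul, Functor.map_mul, mul_comm]
  refine ⟨?_⟩
  have hμ : μ[N] = fst N N * snd N N := by rw [Hom.mul_def, lift_fst_snd, Category.id_comp]
  rw [hμ, MonObj.comp_mul]
  simp only [CartesianMonoidalCategory.braiding_hom_fst, CartesianMonoidalCategory.braiding_hom_snd]
  exact key.symm

/-- A point of an unramified scheme extending over the valuation ring is fixed by inertia. -/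
theorem fixed_of_lift {R K Ω : Type u} [CommRing R] [Field K] [Algebra R K] [Field Ω] [Algebra K Ω]
    (W : ValuationSubring Ω) (hR : ∀ r : R, algebraMap K Ω (algebraMap R K r) ∈ W) (σ : Ω ≃ₐ[K] Ω)
    (hσ : SGA7.IsInertia W σ) {Z : Scheme.{u}} (π : Z ⟶ Spec (CommRingCat.of R)) [FormallyUnramified π]
    [LocallyOfFiniteType π] (zW : Spec (CommRingCat.of W) ⟶ Z)
    (hz : zW ≫ π = Spec.map (CommRingCat.ofHom
      (((algebraMap K Ω).comp (algebraMap R K)).codRestrict W.toSubring hR))) :
    Spec.map (CommRingCat.ofHom (σ : Ω →+* Ω)) ≫ Spec.map (CommRingCat.ofHom W.subtype) ≫ zW =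
      Spec.map (CommRingCat.ofHom W.subtype) ≫ zW := by
  let jW : R →+* W := ((algebraMap K Ω).comp (algebraMap R K)).codRestrict W.toSubring hR
  let σW : W →+* W := ((σ : Ω →+* Ω).comp W.subtype).codRestrict W.toSubring fun w => (hσ w.1 w.2).1
  have hσι : σW.comp jW = jW := RingHom.ext fun r => Subtype.ext (σ.commutes (algebraMap R K r))
  have hσres : (IsLocalRing.residue W).comp σW = IsLocalRing.residue W := by
    ext w
    show IsLocalRing.residue W (σW w) = IsLocalRing.residue W w
    rw [← sub_eq_zero, ← map_sub, IsLocalRing.residue_eq_zero_iff, W.valuation_lt_one_iff]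
    exact (hσ w.1 w.2).2
  have hσz : Spec.map (CommRingCat.ofHom σW) ≫ zW = zW := by
    refine eq_of_unramified_local π _ _ ?_ ?_
    · rw [Category.assoc, hz, ← Spec.map_comp, ← CommRingCat.ofHom_comp, hσι]
    · rw [← Category.assoc, ← Spec.map_comp, ← CommRingCat.ofHom_comp, hσres]
  have hc : Spec.map (CommRingCat.ofHom (σ : Ω →+* Ω)) ≫ Spec.map (CommRingCat.ofHom W.subtype) =
      Spec.map (CommRingCat.ofHom W.subtype) ≫ Spec.map (CommRingCat.ofHom σW) := by
    rw [← Spec.map_comp, ← Spec.map_comp, ← CommRingCat.ofHom_comp, ← CommRingCat.ofHom_comp]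
    exact congrArg (fun g : W →+* Ω => Spec.map (CommRingCat.ofHom g)) (RingHom.ext fun w => rfl)
  rw [reassoc_of% hc, hσz]

/-- Torsion points give points of the kernel. -/
theorem comp_pow_eq {R K Ω : Type u} [CommRing R] [Field K] [Algebra R K] [Field Ω] [Algebra K Ω]
    (N : Over (Spec (CommRingCat.of R))) [GrpObj N] (m : ℕ) (x : SGA7.Pts Ω ((SGA7.genFib R K).obj N))
    (hx : x ^ m = 1) :
    (x.left ≫ pullback.fst N.hom (Spec.map (CommRingCat.ofHom (algebraMap R K)))) ≫
        ((𝟙 N : N ⟶ N) ^ m).left =
      Spec.map (CommRingCat.ofHom ((algebraMap K Ω).comp (algebraMap R K))) ≫ (η[N] : 𝟙_ _ ⟶ N).left := by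
  let gK := Spec.map (CommRingCat.ofHom (algebraMap R K))
  letI : GrpObj ((Over.pullback gK).obj N) := Functor.grpObjObj
  have h1 : x ≫ (Over.pullback gK).map ((𝟙 N : N ⟶ N) ^ m) = x ≫ (Over.pullback gK).map (1 : N ⟶ N) := by
    rw [show (Over.pullback gK).map ((𝟙 N : N ⟶ N) ^ m) = ((Over.pullback gK).map (𝟙 N)) ^ m from
        map_pow (Functor.homMonoidHom (Over.pullback gK) : (N ⟶ N) →* _) (𝟙 N) _,
      show (Over.pullback gK).map (1 : N ⟶ N) = 1 from
        map_one (Functor.homMonoidHom (Over.pullback gK) : (N ⟶ N) →* _),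
      CategoryTheory.Functor.map_id, MonObj.comp_pow, Category.comp_id, MonObj.comp_one]
    exact hx
  have h2 := congrArg (fun t => CommaMorphism.left t ≫ pullback.fst N.hom gK) h1
  simp only [Over.comp_left, Category.assoc, Over.pullback_map_left, pullback.lift_fst] at h2
  rw [Category.assoc]
  refine h2.trans ?_
  have hw : Spec.map (CommRingCat.ofHom ((algebraMap K Ω).comp (algebraMap R K))) =
      x.left ≫ pullback.fst N.hom gK ≫ N.hom := by
    rw [pullback.condition, CommRingCat.ofHom_comp, Spec.map_comp, ← Category.assoc]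
    exact congrArg (· ≫ gK) (Over.w x).symm
  simp only [Hom.one_def, Over.comp_left, Over.toUnit_left, hw, Category.assoc]

end InertiaPtsLib
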